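import Cfsg.Agent.ZStar.RankOneApps
import Mathlib.GroupTheory.Solvable
import Mathlib.GroupTheory.Subgroup.Simple

/-!
A simple group of even order that is not cyclic contains a Klein four-group; with solvability of odd
order groups as a hypothesis, every non-cyclic simple group does.
-/

set_option autoImplicit false
set_option linter.style.haveILetI false

namespace CfsgLib.OddDep

open Cfsg

theorem exists_klein_of_simple {G : Type*} [Group G] [Finite G] [IsSimpleGroup G]
    (hFT : Odd (Nat.card G) → Group.IsSolvable G) (hG : ¬ IsCyclic G) :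
    ∃ E : Subgroup G, IsKleinFour E := by
  by_contra hno
  push Not at hno
  have hna : ¬ IsMulCommutative G := fun h => hG (by
    letI : CommGroup G := { ‹Group G› with mul_comm := fun a b => h.is_comm.comm a b }
    exact IsSimpleGroup.isCyclic)
  rcases Nat.even_or_odd (Nat.card G) with he | ho
  · obtain ⟨z, hz, N, hN, hNodd, hNc⟩ := ZStar.exists_central_modulo he hno
    have hNbot : N = ⊥ := by
      rcases hN.eq_bot_or_eq_top with h | h
      · exact h
      · rw [h, Subgroup.card_top] at hNodd
        exact absurd hNodd (Nat.not_odd_iff_even.2 he)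
    have hzc : z ∈ Subgroup.center G := Subgroup.mem_center_iff.2 fun g => by
      have h := hNc g
      rw [hNbot, Subgroup.mem_bot, mul_inv_eq_one, mul_inv_eq_iff_eq_mul] at h
      exact h.symm
    rcases (inferInstance : (Subgroup.center G).Normal).eq_bot_or_eq_top with h | h
    · rw [h, Subgroup.mem_bot] at hzc
      rw [hzc, orderOf_one] at hz
      omega
    · exact hna ⟨⟨fun a b => Subgroup.mem_center_iff.1 (h ▸ Subgroup.mem_top b) a⟩⟩
  · haveI := hFT ho
    exact hna ⟨⟨fun a b => IsSimpleGroup.comm_iff_isSolvable.2 inferInstance a b⟩⟩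

end CfsgLib.OddDep
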