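import Cfsg.Agent.Balance2.Layer
import Cfsg.Agent.Comp.Layer
import Cfsg.Prelude.Def_CaseTheorems

/-!
The component trichotomy for the centralizer of an involution in a group whose 2-layer is its layer,
with solvability of odd order groups as a hypothesis.
-/

set_option autoImplicit false
set_option linter.style.haveILetI false
set_option linter.unusedSectionVars false

namespace CfsgLib.OddDep

open Subgroup CfsgLib
open scoped commutatorElement

universe u

/-- A central quotient of a quasisimple group is quasisimple. -/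
theorem quasisimple_quotient {X : Type*} [Group X] [Finite X] (hX : Cfsg.IsQuasisimple X)
    (N : Subgroup X) [N.Normal] (hN : N ≠ ⊤) : Cfsg.IsQuasisimple (X ⧸ N) := by
  haveI := hX.1
  haveI := hX.2
  set g := QuotientGroup.mk' N with hgdef
  have hg : Function.Surjective g := QuotientGroup.mk'_surjective N
  have hperfX : ⁅(⊤ : Subgroup X), (⊤ : Subgroup X)⁆ = ⊤ :=
    (_root_.commutator_def X).symm.trans Group.IsPerfect.commutator_eq_top
  have hperf : ⁅(⊤ : Subgroup (X ⧸ N)), (⊤ : Subgroup (X ⧸ N))⁆ = ⊤ := by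
    have e : (⊤ : Subgroup X).map g = ⊤ := map_top_of_surjective g hg
    calc ⁅(⊤ : Subgroup (X ⧸ N)), (⊤ : Subgroup (X ⧸ N))⁆ = ⁅(⊤ : Subgroup X).map g, (⊤ : Subgroup X).map g⁆ := by
          rw [e]
      _ = ⁅(⊤ : Subgroup X), (⊤ : Subgroup X)⁆.map g := (map_commutator _ _ g).symm
      _ = ⊤ := by rw [hperfX, e]
  have hZ : (center (X ⧸ N)).comap g = center X := by
    refine le_antisymm ?_ fun x hx => mem_comap.2 (mem_center_iff.2 fun y => ?_)
    · rcases Comp.quasisimple_normal hX (H := (center (X ⧸ N)).comap g) inferInstance with h | h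
      · exfalso
        apply hN
        have hc : center (X ⧸ N) = ⊤ := by
          rw [← map_comap_eq_self_of_surjective hg (center (X ⧸ N)), h, map_top_of_surjective g hg]
        have hbot : ⁅(⊤ : Subgroup (X ⧸ N)), (⊤ : Subgroup (X ⧸ N))⁆ = ⊥ :=
          commutator_eq_bot_iff_le_centralizer.2 fun x _ => mem_centralizer_iff.2 fun y _ =>
            mem_center_iff.1 (hc ▸ mem_top x) y
        refine eq_top_iff.2 fun x _ => ?_
        have hx : g x ∈ (⊥ : Subgroup (X ⧸ N)) := by rw [← hbot, hperf]; exact mem_top _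
        exact (QuotientGroup.eq_one_iff x).1 (mem_bot.1 hx)
      · exact h
    · obtain ⟨y, rfl⟩ := hg y
      rw [← map_mul, ← map_mul, mem_center_iff.1 hx y]
  refine ⟨⟨by rw [_root_.commutator_def]; exact hperf⟩, ?_⟩
  have hk : ((QuotientGroup.mk' (center (X ⧸ N))).comp g).ker = center X := by
    rw [← MonoidHom.comap_ker, QuotientGroup.ker_mk', hZ]
  exact ((QuotientGroup.quotientMulEquivOfEq hk.symm).trans
    (QuotientGroup.quotientKerEquivOfSurjective _
      ((QuotientGroup.mk'_surjective _).comp hg))).symm.isSimpleGroup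

variable {G : Type u} [Group G] [Finite G]

omit [Finite G] in
theorem inf_normalizer_le_normalizer_sup' (A B : Subgroup G) :
    normalizer (A : Set G) ⊓ normalizer (B : Set G) ≤ normalizer ((A ⊔ B : Subgroup G) : Set G) := by
  intro g hg
  rw [mem_normalizer_iff_map_conj_eq, Subgroup.map_sup, mem_normalizer_iff_map_conj_eq.1 hg.1,
    mem_normalizer_iff_map_conj_eq.1 hg.2]

/-- A quasisimple subgroup is, when groups of odd order are solvable, a quasisimple 2-generated block. -/
theorem quasi_two (hFT : ∀ (H : Type u) [Group H] [Finite H], Odd (Nat.card H) → Group.IsSolvable H)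
    {L : Subgroup G} (hL : Cfsg.IsQuasisimple L) : LBalance.Quasi 2 L := by
  haveI : Fact (Nat.Prime 2) := ⟨Nat.prime_two⟩
  haveI := hL.1
  have hperf : ⁅L, L⁆ = L := Subgroup.isPerfect_iff.mp hL.1
  have hns : ¬ Group.IsSolvable L := Comp.quasisimple_not_solvable hL
  have hO : Cfsg.pPrimeCore 2 L ≠ ⊤ := fun h => by
    have hc := Solvable.coprime_card_pPrimeCore (G := L) 2
    rw [h, card_top] at hc
    exact hns (hFT L (Nat.coprime_two_right.1 hc))
  refine ⟨hperf, quasisimple_quotient hL _ hO, ?_⟩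
  set N : Subgroup L := (PComp.pGen 2 L).subgroupOf L with hNdef
  haveI hNn : N.Normal := (normal_subgroupOf_iff_le_normalizer (PComp.pGen_le 2 L)).2
    (le_normalizer.trans (PComp.normalizer_le_normalizer_pGen 2 L))
  rcases Comp.quasisimple_normal hL (H := N) hNn with h | h
  · exact subgroupOf_eq_top.1 h
  exfalso
  obtain ⟨S⟩ := (inferInstance : Nonempty (Sylow 2 L))
  have hS : (S : Subgroup L) ≤ center L := fun s hs => h (mem_subgroupOf.2 (by
    obtain ⟨k, hk⟩ := S.isPGroup' ⟨s, hs⟩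
    refine PComp.mem_pGen 2 s.2 (k := k) ?_
    have h1 : s ^ 2 ^ k = 1 := congrArg Subtype.val hk
    exact congrArg Subtype.val h1))
  have hodd : Odd (Nat.card (L ⧸ center L)) := by
    have h2 : ¬ 2 ∣ (center L).index := fun hd => S.not_dvd_index (hd.trans (index_dvd_of_le hS))
    rw [← index_eq_card]
    exact Nat.not_even_iff_odd.1 fun he => h2 (even_iff_two_dvd.1 he)
  haveI := hL.2
  haveI := hFT (L ⧸ center L) hodd
  have hab : ∀ a b : L ⧸ center L, a * b = b * a := fun a b =>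
    IsSimpleGroup.comm_iff_isSolvable.2 inferInstance a b
  apply Comp.quasisimple_center_ne_top hL
  refine eq_top_iff.2 ?_
  rw [← (Group.IsPerfect.commutator_eq_top : commutator L = ⊤), _root_.commutator_def,
    commutator_le]
  intro a _ b _
  rw [← QuotientGroup.eq_one_iff, ← QuotientGroup.mk'_apply (center L), map_commutatorElement,
    commutatorElement_eq_one_iff_commute]
  exact hab _ _

omit [Finite G] in
theorem mem_sup_split {A B : Subgroup G} (h : A ≤ normalizer (B : Set G)) {x : G} (hx : x ∈ A ⊔ B) :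
    ∃ a ∈ A, ∃ b ∈ B, x = a * b := by
  have hx' : x ∈ ((A ⊔ B : Subgroup G) : Set G) := hx
  rw [coe_mul_of_left_le_normalizer_right A B h] at hx'
  obtain ⟨a, ha, b, hb, e⟩ := Set.mem_mul.1 hx'
  exact ⟨a, ha, b, hb, e.symm⟩

/-- The trichotomy. -/
theorem component_trichotomy
    (hFT : ∀ (H : Type u) [Group H] [Finite H], Odd (Nat.card H) → Group.IsSolvable H)
    (hL2 : Cfsg.pLayer 2 G = Cfsg.layer G) (t : G) (ht : orderOf t = 2) (L : Subgroup G)
    (hLt : L ≤ centralizer ({t} : Set G))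
    (hL : Cfsg.IsComponent (L.subgroupOf (centralizer ({t} : Set G)))) :
    ∃ D : Subgroup G, Cfsg.IsComponent D ∧ (L = D ∨ (L < D ∧ D = ⁅D, zpowers t⁆) ∨
      (D.map (MulAut.conj t).toMonoidHom ≠ D ∧
        L = (Cfsg.layer ↥((D ⊔ D.map (MulAut.conj t).toMonoidHom) ⊓ centralizer ({t} : Set G))).map
          ((D ⊔ D.map (MulAut.conj t).toMonoidHom) ⊓ centralizer ({t} : Set G)).subtype)) := by
  classical
  haveI : Fact (Nat.Prime 2) := ⟨Nat.prime_two⟩
  set C := centralizer ({t} : Set G) with hCdef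
  have ht2 : t * t = 1 := by rw [← pow_two, ← ht, pow_orderOf_eq_one]
  have htinv : t⁻¹ = t := inv_eq_of_mul_eq_one_right ht2
  have hmemC : ∀ {x : G}, x ∈ C ↔ t * x * t⁻¹ = x := fun {x} => by
    rw [hCdef, mem_centralizer_singleton_iff, mul_inv_eq_iff_eq_mul]
    exact eq_comm
  have htt : ∀ x : G, t * (t * x * t⁻¹) * t⁻¹ = x := fun x => by
    calc t * (t * x * t⁻¹) * t⁻¹ = t * t * x * (t * t)⁻¹ := by group
      _ = x := by rw [ht2]; group
  have hLq : Cfsg.IsQuasisimple L := Comp.isQuasisimple_of_equiv (subgroupOfEquivOfLe hLt) hL.2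
  have hLperf : ⁅L, L⁆ = L := Subgroup.isPerfect_iff.mp hLq.1
  have hLnab : ¬ (∀ a ∈ L, ∀ b ∈ L, a * b = b * a) := fun h => by
    apply Comp.quasisimple_center_ne_top hLq
    exact eq_top_iff.2 fun a _ => mem_center_iff.2 fun b => Subtype.ext (h b b.2 a a.2)
  -- L lies in the layer
  have hR : IsPGroup 2 (zpowers t) := IsPGroup.of_card (n := 1) (by rw [Nat.card_zpowers, ht, pow_one])
  have hCR : centralizer ((zpowers t : Subgroup G) : Set G) = C := by
    refine le_antisymm (fun x hx => mem_centralizer_singleton_iff.2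
      (mem_centralizer_iff.1 hx t (mem_zpowers t)).symm) fun x hx => mem_centralizer_iff.2 ?_
    intro r hr
    obtain ⟨i, rfl⟩ := mem_zpowers_iff.1 hr
    exact ((show Commute x t from mem_centralizer_singleton_iff.1 hx).zpow_right i).eq.symm
  have hLE : L ≤ Cfsg.layer G := hL2 ▸ Balance2.quasi_le_pLayer hR (hCR.symm ▸ hLt)
    (by rw [hCR]; exact hL.1) (quasi_two hFT hLq)
  -- a component not centralised by L
  obtain ⟨D, hD, hDL⟩ : ∃ D : Subgroup G, Cfsg.IsComponent D ∧ ¬ L ≤ centralizer (D : Set G) := by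
    by_contra hcon
    push Not at hcon
    have : Cfsg.layer G ≤ centralizer (L : Set G) :=
      Comp.layer_le fun K hK => le_centralizer_iff.1 (hcon K hK)
    exact hLnab fun a ha b hb => (mem_centralizer_iff.1 (this (hLE hb)) a ha)
  set Dt := D.map (MulAut.conj t).toMonoidHom with hDt
  have hDtc : Cfsg.IsComponent Dt := Comp.component_conj t hD
  have hmemDt : ∀ {x : G}, x ∈ Dt ↔ t * x * t⁻¹ ∈ D := fun {x} => by
    rw [hDt, mem_map]
    constructor
    · rintro ⟨y, hy, rfl⟩
      simpa [htt] using hy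
    · exact fun h => ⟨_, h, by simp [htt]⟩
  set P := D ⊔ Dt with hP
  have hPE : P ≤ Cfsg.layer G := sup_le (Comp.component_le_layer hD) (Comp.component_le_layer hDtc)
  have hPt : ∀ x ∈ P, t * x * t⁻¹ ∈ P := by
    have : P ≤ P.comap (MulAut.conj t).toMonoidHom := sup_le
      (fun x hx => mem_comap.2 (mem_sup_right (mem_map.2 ⟨x, hx, rfl⟩)))
      (fun x hx => mem_comap.2 (mem_sup_left (hmemDt.1 hx)))
    exact fun x hx => this hx
  set Q := centralizer (P : Set G) with hQ
  have hQt : ∀ x ∈ Q, t * x * t⁻¹ ∈ Q := fun x hx => mem_centralizer_iff.2 fun p hp => by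
    have h := mem_centralizer_iff.1 hx _ (hPt p hp)
    calc p * (t * x * t⁻¹) = t * (t * p * t⁻¹) * t⁻¹ * (t * x * t⁻¹) := by rw [htt p]
      _ = t * ((t * p * t⁻¹) * x) * t⁻¹ := by group
      _ = t * x * t⁻¹ * (t * (t * p * t⁻¹) * t⁻¹) := by rw [h]; group
      _ = t * x * t⁻¹ * p := by rw [htt p]
  have hEPQ : Cfsg.layer G ≤ P ⊔ Q := Comp.layer_le fun K hK => by
    rcases Comp.component_eq_or_commute hK hD with rfl | h1
    · exact le_sup_left.trans le_sup_left
    rcases Comp.component_eq_or_commute hK hDtc with rfl | h2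
    · exact le_sup_right.trans le_sup_left
    refine le_trans ?_ le_sup_right
    exact le_centralizer_iff.1 (sup_le (le_centralizer_iff.1 (commutator_eq_bot_iff_le_centralizer.1 h1))
      (le_centralizer_iff.1 (commutator_eq_bot_iff_le_centralizer.1 h2)))
  have hPQn : P ≤ normalizer (Q : Set G) :=
    (le_centralizer_iff.1 (le_refl Q)).trans (centralizer_le_normalizer _)
  have hcomm : ∀ p ∈ P, ∀ q ∈ Q, p * q = q * p := fun p hp q hq => mem_centralizer_iff.1 hq p hp
  -- L lies in the orbit product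
  set PC := P.subgroupOf C with hPC
  have hPCsub : PC.IsSubnormal := by
    haveI hEn : ((Cfsg.layer G).subgroupOf C).Normal := inferInstance
    refine IsSubnormal.step _ _ (fun x hx => mem_subgroupOf.2 (hPE (mem_subgroupOf.1 hx)))
      hEn.isSubnormal ⟨fun n hn g => ?_⟩
    rw [mem_subgroupOf, hPC, mem_subgroupOf] at hn ⊢
    have hg : ((g : C) : G) ∈ normalizer (P : Set G) := by
      refine le_trans ?_ (inf_normalizer_le_normalizer_sup' D Dt) (mem_subgroupOf.1 g.2)
      exact le_inf (Comp.layer_le_normalizer_component hD) (Comp.layer_le_normalizer_component hDtc)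
    simpa using (mem_normalizer_iff.1 hg _).1 hn
  have hLP : L ≤ P := by
    rcases Comp.component_le_or_commutator_eq_bot hL hPCsub with h | h
    · exact fun x hx => h (x := ⟨x, hLt hx⟩) hx
    exfalso
    have hLC : ∀ x ∈ L, ∀ m ∈ P, m ∈ C → x * m = m * x := fun x hx m hm hmC => by
      have h' := commutator_eq_bot_iff_le_centralizer.1 h (x := ⟨x, hLt hx⟩) hx
      exact (congrArg Subtype.val (mem_centralizer_iff.1 h' ⟨m, hmC⟩ hm)).symm
    set N0 := P ⊓ centralizer (L : Set G) with hN0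
    have hL0 : L ≤ N0 ⊔ Q := by
      refine hLperf.ge.trans ?_
      rw [commutator_le]
      intro x hx y hy
      obtain ⟨p, hp, q, hq, rfl⟩ := mem_sup_split hPQn (hEPQ (hLE hx))
      obtain ⟨p', hp', q', hq', rfl⟩ := mem_sup_split hPQn (hEPQ (hLE hy))
      have hfix : ∀ {p q : G}, p ∈ P → q ∈ Q → p * q ∈ L →
          ∃ z ∈ P ⊓ Q, t * p * t⁻¹ = p * z := fun {p q} hp hq hpq => by
        have e := hmemC.1 (hLt hpq)
        refine ⟨p⁻¹ * (t * p * t⁻¹), mem_inf.2 ⟨mul_mem (inv_mem hp) (hPt p hp), ?_⟩, by group⟩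
        have e' : p⁻¹ * (t * p * t⁻¹) = q * (t * q * t⁻¹)⁻¹ := by
          calc p⁻¹ * (t * p * t⁻¹) = p⁻¹ * (t * (p * q) * t⁻¹) * (t * q * t⁻¹)⁻¹ := by group
            _ = q * (t * q * t⁻¹)⁻¹ := by rw [e]; group
        rw [e']
        exact mul_mem hq (inv_mem (hQt q hq))
      obtain ⟨z, hz, hze⟩ := hfix hp hq hx
      obtain ⟨z', hz', hze'⟩ := hfix hp' hq' hy
      have hm : ⁅p, p'⁆ ∈ P := by rw [commutatorElement_def]; exact mul_mem (mul_mem (mul_mem hp hp') (inv_mem hp)) (inv_mem hp')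
      have cz : ∀ a ∈ P, ∀ w ∈ P ⊓ Q, a * w = w * a := fun a ha w hw => hcomm a ha w hw.2
      have hmC : ⁅p, p'⁆ ∈ C := by
        refine hmemC.2 ?_
        have e : t * ⁅p, p'⁆ * t⁻¹ = ⁅p * z, p' * z'⁆ := by
          rw [← hze, ← hze', commutatorElement_def, commutatorElement_def]; group
        rw [e, commutatorElement_def, commutatorElement_def, mul_inv_rev, mul_inv_rev]
        calc p * z * (p' * z') * (z⁻¹ * p⁻¹) * (z'⁻¹ * p'⁻¹)
            = p * (z * p') * z' * z⁻¹ * p⁻¹ * z'⁻¹ * p'⁻¹ := by group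
          _ = p * p' * (z * z') * z⁻¹ * p⁻¹ * z'⁻¹ * p'⁻¹ := by rw [← cz p' hp' z hz]; group
          _ = p * p' * (z' * p⁻¹) * z'⁻¹ * p'⁻¹ := by rw [cz z hz.1 z' hz']; group
          _ = p * p' * p⁻¹ * p'⁻¹ := by rw [← cz p⁻¹ (inv_mem hp) z' hz']; group
      have e : ⁅p * q, p' * q'⁆ = ⁅p, p'⁆ * ⁅q, q'⁆ := by
        rw [commutatorElement_def, commutatorElement_def, commutatorElement_def, mul_inv_rev, mul_inv_rev]
        calc p * q * (p' * q') * (q⁻¹ * p⁻¹) * (q'⁻¹ * p'⁻¹)
            = p * (q * p') * (q' * q⁻¹ * p⁻¹) * q'⁻¹ * p'⁻¹ := by group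
          _ = p * (p' * q) * (p⁻¹ * (q' * q⁻¹)) * q'⁻¹ * p'⁻¹ := by
              rw [← hcomm p' hp' q hq, ← hcomm p⁻¹ (inv_mem hp) (q' * q⁻¹) (mul_mem hq' (inv_mem hq))]
          _ = p * p' * (q * p⁻¹) * (q' * q⁻¹ * q'⁻¹) * p'⁻¹ := by group
          _ = p * p' * p⁻¹ * (q * (q' * q⁻¹ * q'⁻¹) * p'⁻¹) := by rw [← hcomm p⁻¹ (inv_mem hp) q hq]; group
          _ = p * p' * p⁻¹ * (p'⁻¹ * (q * (q' * q⁻¹ * q'⁻¹))) := by
              rw [hcomm p'⁻¹ (inv_mem hp') (q * (q' * q⁻¹ * q'⁻¹))
                (mul_mem hq (mul_mem (mul_mem hq' (inv_mem hq)) (inv_mem hq')))]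
          _ = p * p' * p⁻¹ * p'⁻¹ * (q * q' * q⁻¹ * q'⁻¹) := by group
      rw [e]
      refine mul_mem (mem_sup_left ⟨hm, mem_centralizer_iff.2 fun l hl => hLC l hl _ hm hmC⟩) (mem_sup_right ?_)
      rw [commutatorElement_def]
      exact mul_mem (mul_mem (mul_mem hq hq') (inv_mem hq)) (inv_mem hq')
    have hLQ : L ≤ Q := by
      refine hLperf.ge.trans ?_
      rw [commutator_le]
      intro x hx y hy
      obtain ⟨n, hn, q, hq, rfl⟩ := mem_sup_split (inf_le_left.trans hPQn) (hL0 hx)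
      obtain ⟨n', hn', q', hq', rfl⟩ := mem_sup_split (inf_le_left.trans hPQn) (hL0 hy)
      have c1 : n * (n' * q') = n' * q' * n := (mem_centralizer_iff.1 hn.2 _ hy).symm
      have c1' : n' * (n * q) = n * q * n' := (mem_centralizer_iff.1 hn'.2 _ hx).symm
      have e : ⁅n * q, n' * q'⁆ = ⁅q, q'⁆ := by
        have c2 : Commute n q := hcomm n hn.1 q hq
        have c3 : Commute n' q := hcomm n' hn'.1 q hq
        have c4 : Commute n q' := hcomm n hn.1 q' hq'
        have c5 : Commute n' q' := hcomm n' hn'.1 q' hq'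
        have c6 : Commute n n' := by
          have : Commute n (n' * q' * q'⁻¹) := (show Commute n (n' * q') from c1).mul_right c4.inv_right
          rwa [mul_inv_cancel_right] at this
        rw [commutatorElement_def, commutatorElement_def, mul_inv_rev, mul_inv_rev]
        calc n * q * (n' * q') * (q⁻¹ * n⁻¹) * (q'⁻¹ * n'⁻¹)
            = n * (q * n') * q' * q⁻¹ * n⁻¹ * q'⁻¹ * n'⁻¹ := by group
          _ = n * n' * (q * q' * q⁻¹) * n⁻¹ * q'⁻¹ * n'⁻¹ := by rw [← c3.eq]; group
          _ = n * n' * (n⁻¹ * (q * q' * q⁻¹)) * q'⁻¹ * n'⁻¹ := by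
              rw [((c2.mul_right c4).mul_right c2.inv_right).inv_left.eq]; group
          _ = (n * n' * n⁻¹) * (q * q' * q⁻¹ * q'⁻¹) * n'⁻¹ := by group
          _ = n' * (q * q' * q⁻¹ * q'⁻¹) * n'⁻¹ := by rw [c6.eq, mul_inv_cancel_right]
          _ = q * q' * q⁻¹ * q'⁻¹ := by
              rw [(((c3.mul_right c5).mul_right c3.inv_right).mul_right c5.inv_right).eq, mul_inv_cancel_right]
      rw [e, commutatorElement_def]
      exact mul_mem (mul_mem (mul_mem hq hq') (inv_mem hq)) (inv_mem hq')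
    exact hDL (hLQ.trans (centralizer_le (le_sup_left : D ≤ P)))
  refine ⟨D, hD, ?_⟩
  by_cases hfix : Dt = D
  · -- t normalises D
    have hLD : L ≤ D := hLP.trans (by rw [hP, hfix, sup_idem])
    by_cases hLe : L = D
    · exact Or.inl hLe
    refine Or.inr (Or.inl ⟨lt_of_le_of_ne hLD hLe, ?_⟩)
    have hTn : zpowers t ≤ normalizer (D : Set G) := zpowers_le.2 (mem_normalizer_iff.2 fun x => by
      rw [← hmemDt, hfix])
    have hKD : ⁅D, zpowers t⁆ ≤ D := by
      rw [commutator_le]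
      intro d hd u hu
      rw [commutatorElement_def, show d * u * d⁻¹ * u⁻¹ = d * (u * d⁻¹ * u⁻¹) by group]
      exact mul_mem hd ((mem_normalizer_iff.1 (hTn hu) _).1 (inv_mem hd))
    set K := ⁅D, zpowers t⁆ with hK
    have hDK : D ≤ normalizer (K : Set G) := by
      have key : ∀ d ∈ D, K ≤ K.comap (MulAut.conj d).toMonoidHom := fun d hd => by
        rw [hK, commutator_le]
        intro a ha u hu
        rw [mem_comap]
        show d * ⁅a, u⁆ * d⁻¹ ∈ ⁅D, zpowers t⁆
        rw [show d * ⁅a, u⁆ * d⁻¹ = ⁅d * a, u⁆ * ⁅d, u⁆⁻¹ by simp only [commutatorElement_def]; group]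
        exact mul_mem (commutator_mem_commutator (mul_mem hd ha) hu)
          (inv_mem (commutator_mem_commutator hd hu))
      intro d hd
      refine mem_normalizer_iff.2 fun x => ⟨fun hx => key d hd hx, fun hx => ?_⟩
      have := key d⁻¹ (inv_mem hd) hx
      rw [mem_comap] at this
      simpa [mul_assoc] using this
    rcases Comp.quasisimple_normal hD.2 (H := K.subgroupOf D)
        ((normal_subgroupOf_iff_le_normalizer hKD).2 hDK) with h | h
    · exact le_antisymm (subgroupOf_eq_top.1 h) hKD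
    exfalso
    have hKD' : ⁅⁅zpowers t, D⁆, D⁆ = ⊥ := by
      rw [commutator_comm (zpowers t) D, commutator_eq_bot_iff_le_centralizer]
      intro k hk
      refine mem_centralizer_iff.2 fun d hd => ?_
      exact congrArg Subtype.val
        (mem_center_iff.1 (h (show (⟨k, hKD hk⟩ : D) ∈ K.subgroupOf D from hk)) ⟨d, hd⟩)
    have h0 := Comp.commutator_eq_bot_of_perfect (Comp.component_perfect hD) hKD'
    have hDC : D ≤ C := fun d hd => hmemC.2 (by
      rw [mem_centralizer_iff.1 (commutator_eq_bot_iff_le_centralizer.1 h0 (mem_zpowers t)) d hd |>.symm,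
        mul_inv_cancel_right])
    have := Comp.component_le_eq hL (Comp.component_subgroupOf hD hDC) (fun x hx => hLD hx)
    refine hLe (le_antisymm hLD fun x hx => ?_)
    have hx' : (⟨x, hDC hx⟩ : C) ∈ L.subgroupOf C := this ▸ hx
    exact hx'
  · -- t moves D
    refine Or.inr (Or.inr ⟨hfix, ?_⟩)
    have hcd : ∀ d ∈ D, ∀ e ∈ Dt, d * e = e * d := fun d hd e he => (mem_centralizer_iff.1
      (commutator_eq_bot_iff_le_centralizer.1 ((Comp.component_eq_or_commute hD hDtc).resolve_left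
        (Ne.symm hfix)) hd) e he).symm
    have hin : ∀ {d : G}, d ∈ D → t * d * t⁻¹ ∈ Dt := fun {d} hd => hmemDt.2 (by rw [htt]; exact hd)
    let φ : D →* G := MonoidHom.mk' (fun d => (d : G) * (t * d * t⁻¹)) fun a b => by
      rw [Subgroup.coe_mul]
      calc (a : G) * b * (t * (a * b) * t⁻¹) = a * (b * (t * a * t⁻¹)) * (t * b * t⁻¹) := by group
        _ = a * (t * a * t⁻¹) * (b * (t * b * t⁻¹)) := by rw [hcd b b.2 _ (hin a.2)]; group
    set J := P ⊓ C with hJ
    have hφJ : ∀ d : D, φ d ∈ J := fun d => ⟨mul_mem (mem_sup_left d.2) (mem_sup_right (hin d.2)),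
      hmemC.2 (by
        show t * ((d : G) * (t * d * t⁻¹)) * t⁻¹ = (d : G) * (t * d * t⁻¹)
        calc t * ((d : G) * (t * d * t⁻¹)) * t⁻¹ = (t * d * t⁻¹) * (t * (t * d * t⁻¹) * t⁻¹) := by group
          _ = (d : G) * (t * d * t⁻¹) := by rw [htt, hcd d d.2 _ (hin d.2)])⟩
    have hdec : ∀ x ∈ J, ∃ d : D, ∃ w ∈ Q, x = φ d * w := by
      rintro x ⟨hxP, hxC⟩
      have hn : D ≤ normalizer (Dt : Set G) := (Comp.component_le_layer hD).trans
        (Comp.layer_le_normalizer_component hDtc)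
      obtain ⟨d, hd, e, he, rfl⟩ := mem_sup_split hn hxP
      obtain ⟨d', hd', rfl⟩ : ∃ d' ∈ D, e = t * d' * t⁻¹ := ⟨_, hmemDt.1 he, (htt e).symm⟩
      have e1 := hmemC.1 hxC
      have e2 : d'⁻¹ * d = (t * d * t⁻¹) * (t * d' * t⁻¹)⁻¹ := by
        have : (t * d * t⁻¹) * d' = d * (t * d' * t⁻¹) := by
          rw [← e1]
          calc (t * d * t⁻¹) * d' = t * d * t⁻¹ * (t * (t * d' * t⁻¹) * t⁻¹) := by rw [htt]
            _ = t * (d * (t * d' * t⁻¹)) * t⁻¹ := by group
        calc d'⁻¹ * d = d'⁻¹ * (d * (t * d' * t⁻¹)) * (t * d' * t⁻¹)⁻¹ := by group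
          _ = d'⁻¹ * ((t * d * t⁻¹) * d') * (t * d' * t⁻¹)⁻¹ := by rw [this]
          _ = _ := by rw [← hcd d' hd' _ (hin hd)]; group
      refine ⟨⟨d', hd'⟩, d'⁻¹ * d, ?_, ?_⟩
      · have h1 : d'⁻¹ * d ∈ D := mul_mem (inv_mem hd') hd
        have h2 : d'⁻¹ * d ∈ Dt := e2 ▸ mul_mem (hin hd) (inv_mem (hin hd'))
        have : P ≤ centralizer ({d'⁻¹ * d} : Set G) := sup_le
          (fun a ha => mem_centralizer_singleton_iff.2 (hcd a ha _ h2))
          (fun a ha => mem_centralizer_singleton_iff.2 (hcd _ h1 a ha).symm)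
        exact mem_centralizer_iff.2 fun p hp => mem_centralizer_singleton_iff.1 (this hp)
      · show d * (t * d' * t⁻¹) = d' * (t * d' * t⁻¹) * (d'⁻¹ * d)
        rw [mul_assoc d' _ _, ← hcd _ (mul_mem (inv_mem hd') hd) _ (hin hd')]; group
    have hcJ : ⁅J, J⁆ ≤ φ.range := by
      rw [commutator_le]
      intro x hx y hy
      obtain ⟨a, v, hv, rfl⟩ := hdec x hx
      obtain ⟨b, w, hw, rfl⟩ := hdec y hy
      have hvP : v ∈ P := by
        have : v = (φ a)⁻¹ * (φ a * v) := by group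
        rw [this]; exact mul_mem (inv_mem (hφJ a).1) hx.1
      refine ⟨⁅a, b⁆, ?_⟩
      rw [map_commutatorElement]
      have c1 : Commute v (φ b) := (hcomm _ (hφJ b).1 v hv).symm
      have c2 : Commute w (φ a) := (hcomm _ (hφJ a).1 w hw).symm
      have c3 : Commute v w := hcomm v hvP w hw
      have c4 : Commute v (φ a) := (hcomm _ (hφJ a).1 v hv).symm
      have c5 : Commute w (φ b) := (hcomm _ (hφJ b).1 w hw).symm
      simp only [commutatorElement_def, mul_inv_rev]
      symm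
      calc φ a * v * (φ b * w) * (v⁻¹ * (φ a)⁻¹) * (w⁻¹ * (φ b)⁻¹)
          = φ a * (v * φ b) * (w * v⁻¹) * (φ a)⁻¹ * w⁻¹ * (φ b)⁻¹ := by group
        _ = φ a * φ b * (w * (φ a)⁻¹) * w⁻¹ * (φ b)⁻¹ := by rw [c1.eq, ← c3.inv_left.eq]; group
        _ = φ a * φ b * (φ a)⁻¹ * (φ b)⁻¹ := by rw [c2.inv_right.eq]; group
    have hlay : (Cfsg.layer ↥J).map J.subtype ≤ φ.range := by
      refine le_trans ?_ hcJ
      rw [← Comp.layer_perfect (G := ↥J), map_commutator]
      exact commutator_mono (map_subtype_le _) (map_subtype_le _)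
    have hLJ : L ≤ J := le_inf hLP hLt
    have hJC : J ≤ C := inf_le_right
    have hLJc : Cfsg.IsComponent (L.subgroupOf J) :=
      ⟨by have := hL.1.comap (Subgroup.inclusion hJC); exact this,
        Comp.isQuasisimple_of_equiv (subgroupOfEquivOfLe hLJ).symm hLq⟩
    have hLle : L ≤ (Cfsg.layer ↥J).map J.subtype := fun x hx =>
      ⟨⟨x, hLJ hx⟩, Comp.component_le_layer hLJc hx, rfl⟩
    refine le_antisymm hLle (hlay.trans ?_)
    have hsub : (L.comap φ).IsSubnormal := by
      have := hLJc.1.comap (φ.codRestrict J hφJ)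
      exact this
    rcases Comp.quasisimple_subnormal hD.2 hsub with h | h
    · rintro _ ⟨d, rfl⟩
      have : d ∈ L.comap φ := h ▸ mem_top d
      exact this
    · exfalso
      refine hLnab fun x hx y hy => ?_
      obtain ⟨a, rfl⟩ := (hLle.trans hlay) hx
      obtain ⟨b, rfl⟩ := (hLle.trans hlay) hy
      rw [← map_mul, ← map_mul, mem_center_iff.1 (h (show b ∈ L.comap φ from hy)) a]

end CfsgLib.OddDep
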